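import Cfsg.Agent.Lib.Mult.Cov
import Cfsg.Agent.Lib.Grp.A6.Main

set_option autoImplicit false
set_option maxRecDepth 100000
set_option Elab.async false

namespace Cfsg.Agent.Mult.A6

open Cfsg.Agent.CG Cfsg.Agent.CG.A6

noncomputable def cvP : List (List ℕ × List ℕ) := [([21,17,19,17],
  [18,21,18,19]),
  ([18,19,18],
  [21,19,20,19])]
noncomputable def cv0s0 : List (ℕ × ℕ) := [(128, (Nat.shiftLeft (Nat.sub (Nat.pow 2 72) 1) 0))]
noncomputable def cv0s17 : List (ℕ × ℕ) := [(64, copies 128 2 0xc4100c8000000000),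
  (32, copies 128 2 0xc0100cc000000000cc756729),
  (16, copies 128 2 0x4000000c030000034e400008918),
  (8, copies 128 2 0xc00000008c007000c5000c00c1),
  (4, copies 128 2 0xc000000080001060e09000d0900),
  (2, copies 128 2 0x30001133021011021),
  (1, copies 128 2 0x400001040054504105110051145),
  (2, copies 128 2 0x2000200000220),
  (4, copies 128 2 0x8000000000802020a020a0e0004),
  (8, copies 128 2 0xc0000000000042001400340080),
  (16, copies 128 2 0x4000000c0200000e0a000008098),
  (32, copies 128 2 0xc0100cc000000000feba1534),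
  (64, copies 128 2 0xc4100c8000000000),
  (128, 0xa4a105990d26490a02)]
noncomputable def cv0s18 : List (ℕ × ℕ) := [(128, 0xa4a105990d26490a02),
  (64, copies 128 2 0xc4100c8000000000),
  (32, copies 128 2 0xc0100cc000000000feba1534),
  (16, copies 128 2 0x4000000c0200000e0a000008098),
  (8, copies 128 2 0xc0000000000042001400340080),
  (4, copies 128 2 0x8000000000802020a020a0e0004),
  (2, copies 128 2 0x2000200000220),
  (1, copies 128 2 0x400001040054504105110051145),
  (2, copies 128 2 0x30001133021011021),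
  (4, copies 128 2 0xc000000080001060e09000d0900),
  (8, copies 128 2 0xc00000008c007000c5000c00c1),
  (16, copies 128 2 0x4000000c030000034e400008918),
  (32, copies 128 2 0xc0100cc000000000cc756729),
  (64, copies 128 2 0xc4100c8000000000)]
noncomputable def cv0s19 : List (ℕ × ℕ) := [(64, copies 128 2 0x4410800000000000),
  (32, copies 128 2 0x4410800000000000fc274420),
  (16, copies 128 2 0x40100000c64e0000d120),
  (8, copies 128 2 0x100080001e003100920094),
  (4, copies 128 2 0x400000f0e0f060e0a0d0e04),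
  (2, copies 128 2 0x100000332011220032331003),
  (1, copies 128 2 0x40410100054100140055),
  (2, copies 128 2 0x2200000000),
  (4, copies 128 2 0x40000000a00020000020404),
  (8, copies 128 2 0x100080001e004c00920094),
  (16, copies 128 2 0x40100000c64e0000d020),
  (32, copies 128 2 0x4410800000000000fc274420),
  (64, copies 128 2 0x4410800000000000),
  (128, 0xf4a3e7e3fc5104384c)]
noncomputable def cv0s20 : List (ℕ × ℕ) := [(64, copies 128 2 0x38c430000000000),
  (32, copies 128 2 0x38c430000000000058f1840),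
  (16, copies 128 2 0xf0000099560000b468),
  (8, copies 128 2 0xc0004200e8003e009800ea),
  (4, copies 128 2 0xc0c00080207010c0801060b),
  (2, copies 128 2 0x33000031200220132223020),
  (1, copies 128 2 0x1450400001004000144),
  (2, copies 128 2 0x200000002000002),
  (4, copies 128 2 0xc0c00080200000408000604),
  (8, copies 128 2 0xc000420060003a009800ea),
  (16, copies 128 2 0xf0000099560000b428),
  (32, copies 128 2 0x38c430000000000058f1840),
  (64, copies 128 2 0x38c430000000000),
  (128, 0xfedc921c0344c36ff0)]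
noncomputable def cv0s21 : List (ℕ × ℕ) := [(64, copies 128 2 0x2010000000000000),
  (32, copies 128 2 0x20100000000000002b040a01),
  (16, copies 128 2 0x20900000679d00009e95),
  (8, copies 128 2 0x2200be001800ac00cf),
  (4, copies 128 2 0x20e070100080004080f),
  (2, copies 128 2 0x2000200112231230221121),
  (1, copies 128 2 0x1000111441011001144551),
  (2, copies 128 2 0x2000202222022000222002),
  (4, copies 128 2 0xa0c040c0800040006),
  (8, copies 128 2 0x22005e003000a00030),
  (16, copies 128 2 0x20900000b0f000009e94),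
  (32, copies 128 2 0x201000000000000033050a20),
  (64, copies 128 2 0x2010000000000000),
  (128, 0xca74ce8ae1ef36c520)]
noncomputable def cv0 : Mono := ⟨256, 8, 2, 0, [cv0s0,[],[],[],[],[],[],[],[],[],[],[],[],[],[],[],[],cv0s17,cv0s18,cv0s19,cv0s20,cv0s21], [0,0,1,1,1,1,1,0,1,1,1,0,1]⟩
noncomputable def cv1s0 : List (ℕ × ℕ) := [(8, (Nat.shiftLeft (Nat.sub (Nat.pow 2 6) 1) 0)),
  (8, (Nat.shiftLeft (Nat.sub (Nat.pow 2 6) 1) 8))]
noncomputable def cv1s17 : List (ℕ × ℕ) := [(1, copies 8 3 0x4),
  (2, copies 8 3 0x2),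
  (8, 0x24),
  (8, 0x2d00),
  (8, 0x9)]
noncomputable def cv1s18 : List (ℕ × ℕ) := [(8, 0x9),
  (8, 0x2d00),
  (8, 0x24),
  (2, copies 8 3 0x2),
  (1, copies 8 3 0x4)]
noncomputable def cv1s19 : List (ℕ × ℕ) := [(4, copies 8 3 0x2),
  (1, copies 8 3 0x14),
  (4, copies 8 3 0x2),
  (8, 0x18),
  (8, 0x3900),
  (8, 0x21)]
noncomputable def cv1s20 : List (ℕ × ℕ) := [(1, copies 8 3 0x14),
  (8, 0x3),
  (8, 0x2b00),
  (8, 0x28)]
noncomputable def cv1s21 : List (ℕ × ℕ) := [(1, copies 8 3 0x5),
  (8, 0x8),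
  (8, 0xc00),
  (8, 0x4)]
noncomputable def cv1 : Mono := ⟨24, 5, 3, 0, [cv1s0,[],[],[],[],[],[],[],[],[],[],[],[],[],[],[],[],cv1s17,cv1s18,cv1s19,cv1s20,cv1s21], [0,0,0,1,0,2,0,0,0,2,0,0,2]⟩

theorem cvc0 : cv0.chk tcR 0 280 = true := by decide +kernel
theorem cvc1 : cv0.chkP cvP [1,0] = true := by decide +kernel
theorem cvc2 : cv1.chk tcR 0 175 = true := by decide +kernel
theorem cvc3 : cv1.chkP cvP [0,1] = true := by decide +kernel
theorem cvc4 : chkPairs app bs tcS cvP = true := by decide +kernel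

theorem pairs : ∀ p ∈ cvP, (∀ a ∈ p.1 ++ p.2, a ∈ tcS) ∧ ev act.gen (p.1 ++ p.2) = ev act.gen (p.2 ++ p.1) :=
  pairs_of_chk base cvc4

theorem pl0 : PL tcR cvP (ZMod 2) ([1,0].map Nat.cast) :=
  haveI : NeZero cv0.m := ⟨by decide⟩
  Mono.pl (D := cv0) (by decide) (by decide +kernel)
    cvc0
    cvc1

theorem pl1 : PL tcR cvP (ZMod 3) ([0,1].map Nat.cast) :=
  haveI : NeZero cv1.m := ⟨by decide⟩
  Mono.pl (D := cv1) (by decide) (by decide +kernel)
    cvc2
    cvc3

theorem ex : EX PG (Multiplicative (ZMod 2 × ZMod 3)) :=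
  PL.ex bounds rels clS card.ge (pl0.prod pl1) pairs (top_of_spanL (k := 6) (by decide +kernel))

end Cfsg.Agent.Mult.A6
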