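import Cfsg.Agent.Lib.Mult.Glue
import Cfsg.Agent.Lib.Grp.A6.Main

set_option autoImplicit false
set_option maxRecDepth 100000
set_option Elab.async false

namespace Cfsg.Agent.Mult.A6

open Cfsg.Agent.CG Cfsg.Agent.CG.A6

noncomputable def p3T : ℕ := 0x802802000000402000000000
noncomputable def p3q1 : ℕ := 0x21
noncomputable def p3q2 : ℕ := 0xa5
noncomputable def p3NF : ℕ := 0x40000000000000001000000000000000040000000000000001000000000000000000000000000000000000000000010000000000000000000000000000000000000000000000000000000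
noncomputable def p3gv : ℕ := 0x300000c00001000000000030000000080000000000800
noncomputable def p3av : ℕ := 0x400000000000000010000000000000000000000
noncomputable def p3mu : ℕ := 0x80000080000000000800000000000000000
noncomputable def p3om : ℕ := 0x2000
noncomputable def p3tm : ℕ := 0x11a368b6d
noncomputable def p3par : ℕ := 0xa9874
noncomputable def p3z : Desc := ⟨0,0,0,0,[],[]⟩
noncomputable def p3ds : Tr Desc := (.node (.node (.node (.node (.leaf p3z) (.leaf ⟨0,2,0,0,[],[]⟩)) (.leaf ⟨0,0,0,0,[],[]⟩)) (.node (.node (.leaf p3z) (.leaf ⟨0,4,0,0,[],[]⟩)) (.leaf p3z))) (.node (.node (.node (.leaf p3z) (.leaf ⟨0,3,0,0,[],[]⟩)) (.leaf p3z)) (.node (.leaf p3z) (.leaf ⟨0,1,0,0,[],[]⟩))))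
noncomputable def p3rd : Tr Desc := (.node (.node (.leaf p3z) (.leaf ⟨2,0,0,0,[1,1,1],[]⟩)) (.node (.leaf ⟨2,0,0,0,[0,0,0],[]⟩) (.leaf ⟨1,0x2,1,1,[],[]⟩)))
noncomputable def D3 : Dat where
  p := 3
  q := 9
  n1 := 3
  b := 2
  fl := 2
  ew := 12
  T := p3T
  w := 9
  fuel := 4
  nf := 1
  cm := 2
  q1 := fun x => look 0xf p3q1 (Nat.mul 4 x)
  q2 := fun x => look 0xf p3q2 (Nat.mul 4 x)
  NV := 11
  d := 5
  w2 := 11
  NF := fun x => look 0x7fffffffffffff p3NF (Nat.mul 55 x)
  tm := fun x => look 0x7 p3tm (Nat.mul 3 x)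
  TM := 5
  par := fun x => look 0xf p3par (Nat.mul 4 x)
  ds := fun x => p3ds.get x
  r := 4
  s0 := 1
  gv := fun x => look 0x7fffffffffffff p3gv (Nat.mul 55 x)
  rd := fun x => p3rd.get x
  av := fun x => look 0x7fffffffffffff p3av (Nat.mul 55 x)
  mw := 4
  mu := fun x => look 0xffff p3mu (Nat.mul 16 x)
  ms := [3]
  om := fun x => look 0xffff p3om (Nat.mul 16 x)
noncomputable def p3w1 : List (List ℕ) := [[16],
  [4,0,3,16],
  [0,2,13,16]]
noncomputable def p3w2 : List (List ℕ) := [[1],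
  [2]]
noncomputable def p3L0c : ℕ := 0x6008
noncomputable def p3L0p : ℕ := 0x400
noncomputable def p3L0l : ℕ := 0x840
noncomputable def p3L0q : ℕ := 0x200001
noncomputable def p3L1c : ℕ := 0x20a10
noncomputable def p3L1p : ℕ := 0x1000
noncomputable def p3L1l : ℕ := 0x1040
noncomputable def p3L1q : ℕ := 0x2001
noncomputable def p3L : List Lvl := [mkLvl 8 [2] 3 5 p3L0c p3L0p p3L0l 5 p3L0q,
  mkLvl 16 [1] 3 6 p3L1c p3L1p p3L1l 5 p3L1q]

theorem p3c0 : okcb 6 8 (bases p3L) = true := by decide +kernel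
theorem p3c1 : D3.chkNum 1 2 360 p3w2 p3L = true := by decide +kernel
theorem p3c2 : headAll (appW (appW app p3w1) p3w2) p3L [] = true := by decide +kernel
theorem p3c3 : allL (fun l => l.chk (appW (appW app p3w1) p3w2) 1 (l.N - 1)) p3L = true := by decide +kernel
theorem p3c4 : D3.chkPc (appW app p3w1) bs 0 9 = true := by decide +kernel
theorem p3c5 : D3.chkFus (appW app p3w1) bs 0 2 = true := by decide +kernel
theorem p3c6 : D3.chkHead = true := by decide +kernel
theorem p3c7 : D3.chkVars 0 11 = true := by decide +kernel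
theorem p3c8 : D3.chkRhos 0 4 = true := by decide +kernel
theorem p3c9 : D3.chkEnts 0 9 = true := by decide +kernel

theorem pb3 : PB PG 3 [3] :=
  Dat.pbA (D := D3) base card (by norm_num : Nat.Prime 3) (okc_of_okcb p3c0) p3c1 p3c2 p3c3
    p3c4
    p3c5
    p3c6 p3c7
    p3c8
    p3c9

end Cfsg.Agent.Mult.A6
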